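import Groth.Agent.LocFlat.Basic
import Groth.Agent.RegLocal.Basic

/-!
Miracle flatness: if generators of the maximal ideal of `R` form a weakly regular sequence on `R` and
on a Noetherian local `R`-algebra `S`, then `S` is flat over `R`.
-/

set_option autoImplicit false
universe u
open RingTheory.Sequence IsLocalRing TensorProduct
open scoped Pointwise

namespace Groth.Agent.MiracleFlatLib

theorem flat_of_isWeaklyRegular : ∀ (l : ℕ) (R S : Type u) [CommRing R] [CommRing S] [IsLocalRing R]
    [IsLocalRing S] [IsNoetherianRing R] [IsNoetherianRing S] [Algebra R S] [IsLocalHom (algebraMap R S)]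
    (rs : List R), rs.length = l → maximalIdeal R = Ideal.ofList rs → IsWeaklyRegular R rs →
      IsWeaklyRegular S rs → Module.Flat R S := by
  intro l
  induction l with
  | zero =>
    intro R S _ _ _ _ _ _ _ _ rs hrs hm _ _
    rw [List.length_eq_zero_iff.1 hrs, Ideal.ofList_nil] at hm
    letI := (isField_iff_maximalIdeal_eq.2 hm).toField
    infer_instance
  | succ l ih =>
    intro R S _ _ _ _ _ _ _ _ rs hrs hm hR hS
    obtain ⟨t, rs, rfl⟩ : ∃ t ts, rs = t :: ts := List.exists_cons_of_length_eq_add_one hrs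
    obtain ⟨htR, hR'⟩ := (isWeaklyRegular_cons_iff R t rs).1 hR
    obtain ⟨htS, hS'⟩ := (isWeaklyRegular_cons_iff S t rs).1 hS
    let I : Ideal R := Ideal.span {t}
    let J : Ideal S := I.map (algebraMap R S)
    have htm : t ∈ maximalIdeal R := hm ▸ Ideal.subset_span (List.mem_cons_self)
    have hI : I ≠ ⊤ := fun h => (maximalIdeal.isMaximal R).ne_top
      (top_le_iff.1 (h ▸ Ideal.span_le.2 (Set.singleton_subset_iff.2 htm)))
    have hJm : J ≤ maximalIdeal S :=
      (Ideal.map_mono (le_maximalIdeal hI)).trans (IsLocalRing.map_maximalIdeal_le _)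
    have hJ : J ≠ ⊤ := fun h => (maximalIdeal.isMaximal S).ne_top (top_le_iff.1 (h ▸ hJm))
    haveI : IsLocalRing (R ⧸ I) := RegLocal.isLocalRing_quot hI
    haveI : IsLocalRing (S ⧸ J) := RegLocal.isLocalRing_quot hJ
    letI : Algebra (R ⧸ I) (S ⧸ J) :=
      (Ideal.quotientMap J (algebraMap R S) Ideal.le_comap_map).toAlgebra
    haveI : IsScalarTower R (R ⧸ I) (S ⧸ J) := IsScalarTower.of_algebraMap_eq fun r => rfl
    haveI : IsLocalHom (algebraMap (R ⧸ I) (S ⧸ J)) := ⟨fun a ha => by
      obtain ⟨a, rfl⟩ := Ideal.Quotient.mk_surjective a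
      by_contra hu
      have ha' : a ∈ maximalIdeal R := fun h => hu (h.map _)
      have hmem : Ideal.Quotient.mk J (algebraMap R S a) ∈ (maximalIdeal S).map (Ideal.Quotient.mk J) :=
        Ideal.mem_map_of_mem _ (IsLocalRing.map_maximalIdeal_le _ (Ideal.mem_map_of_mem _ ha'))
      exact (maximalIdeal.isMaximal (S ⧸ J)).ne_top (Ideal.eq_top_of_isUnit_mem _
        ((RegLocal.maximalIdeal_quot hJ).ge hmem) ha)⟩
    have hm' : maximalIdeal (R ⧸ I) = Ideal.ofList (rs.map (Ideal.Quotient.mk I)) := by
      rw [RegLocal.maximalIdeal_quot hI, hm, Ideal.ofList_cons, Ideal.map_sup, Ideal.map_quotient_self,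
        bot_sup_eq, Ideal.map_ofList]
    have hsmulR : (t • ⊤ : Submodule R R) = I := by
      rw [← Submodule.ideal_span_singleton_smul, smul_eq_mul, Ideal.mul_top]
    have hsmulS : (t • ⊤ : Submodule R S) = J.restrictScalars R := by
      rw [← Submodule.ideal_span_singleton_smul, Ideal.smul_top_eq_map]
    have hR'' : IsWeaklyRegular (R ⧸ I) (rs.map (algebraMap R (R ⧸ I))) := by
      rw [isWeaklyRegular_map_algebraMap_iff,
        ← (Submodule.quotEquivOfEq _ _ hsmulR).isWeaklyRegular_congr rs]
      exact hR'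
    have hS'' : IsWeaklyRegular (S ⧸ J) (rs.map (algebraMap R (R ⧸ I))) := by
      rw [isWeaklyRegular_map_algebraMap_iff,
        ← (Submodule.quotEquivOfEq _ _ hsmulS ≪≫ₗ
          Submodule.Quotient.restrictScalarsEquiv R (J : Submodule S S)).isWeaklyRegular_congr rs]
      exact hS'
    have hflat := ih (R ⧸ I) (S ⧸ J) (rs.map (Ideal.Quotient.mk I)) (by simpa using hrs) hm' hR'' hS''
    refine LocFlat.flat_of_ideal (S := S) I hI ?_ ?_
    · rw [injective_iff_map_eq_zero]
      intro z hz
      have hgen : ∀ z : I ⊗[R] S, ∃ s : S, z = (⟨t, Ideal.mem_span_singleton_self t⟩ : I) ⊗ₜ[R] s := by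
        intro z
        induction z using TensorProduct.induction_on with
        | zero => exact ⟨0, by simp⟩
        | tmul a s =>
          obtain ⟨c, hc⟩ := Ideal.mem_span_singleton'.1 a.2
          refine ⟨c • s, ?_⟩
          rw [← TensorProduct.smul_tmul]
          congr 1
          exact Subtype.ext hc.symm
        | add a b ha hb =>
          obtain ⟨s₁, rfl⟩ := ha
          obtain ⟨s₂, rfl⟩ := hb
          exact ⟨s₁ + s₂, (TensorProduct.tmul_add _ _ _).symm⟩
      obtain ⟨s, rfl⟩ := hgen z
      have h0 := congrArg (TensorProduct.lid R S) hz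
      rw [LinearMap.rTensor_tmul, TensorProduct.lid_tmul, map_zero] at h0
      rw [htS.right_eq_zero_of_smul h0, TensorProduct.tmul_zero]
    · let e : (R ⧸ I) ⊗[R] S ≃ₗ[R] S ⧸ J :=
        quotTensorEquivQuotSMul S I ≪≫ₗ Submodule.quotEquivOfEq _ _ (Ideal.smul_top_eq_map I) ≪≫ₗ
          Submodule.Quotient.restrictScalarsEquiv R (J : Submodule S S)
      exact Module.Flat.of_linearEquiv (e.extendScalarsOfSurjective Ideal.Quotient.mk_surjective)

end Groth.Agent.MiracleFlatLib
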